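import Groth.Agent.Lib.Helper97.DefDual.OfExt

/-!
# Equivalent extensions give isomorphic first-order deformations, and conversely
-/

set_option autoImplicit false

namespace Groth.Agent.Lib.Helper97.DefDual

open CategoryTheory CategoryTheory.Limits AlgebraicGeometry DualNumber

universe u

variable {k B : Type u} [Field k] [CommRing B] [Algebra k B] {E E' : Exal.Ext k B B}

lemma equiv_epsE (e : E.Equiv E') : e.toAlgEquiv (epsE E) = epsE E' := e.apply_incl 1

lemma equiv_dmap (e : E.Equiv E') (d : DualNumber k) : e.toAlgEquiv (dmap E d) = dmap E' d := by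
  have h : (e.toAlgEquiv : E.E →ₐ[k] E'.E).comp (dmap E) = dmap E' := by
    apply DualNumber.algHom_ext
    show e.toAlgEquiv (dmap E ε) = dmap E' ε
    rw [dmap_eps, dmap_eps, equiv_epsE]
  exact congrArg (fun f => f d) h

/-- The isomorphism of spectra attached to an equivalence of extensions. -/
noncomputable def specIsoOfEquiv (e : E.Equiv E') :
    Spec (CommRingCat.of E.E) ≅ Spec (CommRingCat.of E'.E) where
  hom := Spec.map (CommRingCat.ofHom (e.toAlgEquiv.symm : E'.E →ₐ[k] E.E).toRingHom)
  inv := Spec.map (CommRingCat.ofHom (e.toAlgEquiv : E.E →ₐ[k] E'.E).toRingHom)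
  hom_inv_id := by
    rw [← Spec.map_comp, ← CommRingCat.ofHom_comp]
    have : (e.toAlgEquiv.symm : E'.E →ₐ[k] E.E).toRingHom.comp
        (e.toAlgEquiv : E.E →ₐ[k] E'.E).toRingHom = RingHom.id E.E := by
      ext x
      exact e.toAlgEquiv.symm_apply_apply x
    rw [this, CommRingCat.ofHom_id, Spec.map_id]
  inv_hom_id := by
    rw [← Spec.map_comp, ← CommRingCat.ofHom_comp]
    have : (e.toAlgEquiv : E.E →ₐ[k] E'.E).toRingHom.comp
        (e.toAlgEquiv.symm : E'.E →ₐ[k] E.E).toRingHom = RingHom.id E'.E := by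
      ext x
      exact e.toAlgEquiv.apply_symm_apply x
    rw [this, CommRingCat.ofHom_id, Spec.map_id]

/-- Equivalent extensions give isomorphic deformations. -/
noncomputable def isoOfEquiv (e : E.Equiv E') : (ofExt E).Iso (ofExt E') where
  iso := specIsoOfEquiv e
  hom_f := by
    show Spec.map (CommRingCat.ofHom (e.toAlgEquiv.symm : E'.E →ₐ[k] E.E).toRingHom) ≫
      Spec.map (CommRingCat.ofHom (dmap E').toRingHom) = Spec.map (CommRingCat.ofHom (dmap E).toRingHom)
    rw [← Spec.map_comp, ← CommRingCat.ofHom_comp]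
    congr 2
    refine RingHom.ext fun d => ?_
    show e.toAlgEquiv.symm (dmap E' d) = dmap E d
    rw [AlgEquiv.symm_apply_eq, equiv_dmap]
  i_hom := by
    show Spec.map (CommRingCat.ofHom E.proj.toRingHom) ≫
      Spec.map (CommRingCat.ofHom (e.toAlgEquiv.symm : E'.E →ₐ[k] E.E).toRingHom) =
        Spec.map (CommRingCat.ofHom E'.proj.toRingHom)
    rw [← Spec.map_comp, ← CommRingCat.ofHom_comp]
    congr 2
    refine RingHom.ext fun y => ?_
    show E.proj (e.toAlgEquiv.symm y) = E'.proj y
    rw [← e.proj_apply, AlgEquiv.apply_symm_apply]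

/-- Isomorphic deformations come from equivalent extensions. -/
theorem nonempty_equiv_of_iso (I : (ofExt E).Iso (ofExt E')) : Nonempty (E'.Equiv E) := by
  let φ : CommRingCat.of E'.E ⟶ CommRingCat.of E.E := Spec.preimage I.iso.hom
  let φ' : CommRingCat.of E.E ⟶ CommRingCat.of E'.E := Spec.preimage I.iso.inv
  have hφ : Spec.map φ = I.iso.hom := Spec.map_preimage _
  have hφ' : Spec.map φ' = I.iso.inv := Spec.map_preimage _
  have h1 : φ' ≫ φ = 𝟙 _ := by
    apply Spec.map_injective
    rw [Spec.map_comp, hφ, hφ', Spec.map_id]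
    exact I.iso.hom_inv_id
  have h2 : φ ≫ φ' = 𝟙 _ := by
    apply Spec.map_injective
    rw [Spec.map_comp, hφ, hφ', Spec.map_id]
    exact I.iso.inv_hom_id
  have h3 : CommRingCat.ofHom (dmap E').toRingHom ≫ φ = CommRingCat.ofHom (dmap E).toRingHom := by
    apply Spec.map_injective
    rw [Spec.map_comp, hφ]
    exact I.hom_f
  have h4 : φ ≫ CommRingCat.ofHom E.proj.toRingHom = CommRingCat.ofHom E'.proj.toRingHom := by
    apply Spec.map_injective
    rw [Spec.map_comp, hφ]
    exact I.i_hom
  have h1' : ∀ x, φ.hom (φ'.hom x) = x := fun x => congrArg (fun f => f.hom x) h1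
  have h2' : ∀ y, φ'.hom (φ.hom y) = y := fun y => congrArg (fun f => f.hom y) h2
  have h3' : ∀ d, φ.hom (dmap E' d) = dmap E d := fun d => congrArg (fun f => f.hom d) h3
  have h4' : ∀ y, E.proj (φ.hom y) = E'.proj y := fun y => congrArg (fun f => f.hom y) h4
  let re : E'.E ≃+* E.E := RingEquiv.ofRingHom φ.hom φ'.hom
    (RingHom.ext h1') (RingHom.ext h2')
  have hre : ∀ y, re y = φ.hom y := fun y => rfl
  have hcomm : ∀ c : k, re (algebraMap k E'.E c) = algebraMap k E.E c := by
    intro c
    rw [hre, ← (dmap E').commutes c, h3', (dmap E).commutes c]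
  refine ⟨⟨AlgEquiv.ofRingEquiv (f := re) hcomm, ?_, ?_⟩⟩
  · intro y
    show E.proj (φ.hom y) = E'.proj y
    exact h4' y
  · intro z
    show φ.hom (E'.incl z) = E.incl z
    obtain ⟨s, rfl⟩ := E'.isExtension.proj_surjective z
    rw [incl_eq_mul_epsE, map_mul, ← dmap_eps, h3', dmap_eps, mul_epsE, h4']

end Groth.Agent.Lib.Helper97.DefDual
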