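import Mathlib

/-!
# Flatness over the dual numbers

A module `M` over `k[ε]` (`k` a field) is flat iff every element killed by `ε` is a multiple of `ε`.
-/

set_option autoImplicit false

namespace Groth.Agent.Lib.Helper97.DefDual

open TensorProduct DualNumber

variable {k : Type*} [Field k] {M : Type*} [AddCommGroup M] [Module (DualNumber k) M]

lemma eps_mul_eq_zero_iff (x : DualNumber k) : (ε : DualNumber k) * x = 0 ↔ TrivSqZeroExt.fst x = 0 := by
  constructor
  · intro h
    have := congrArg TrivSqZeroExt.snd h
    rw [DualNumber.snd_mul, DualNumber.fst_eps, DualNumber.snd_eps, zero_mul, one_mul, zero_add,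
      TrivSqZeroExt.snd_zero] at this
    exact this
  · intro h
    refine TrivSqZeroExt.ext ?_ ?_
    · rw [TrivSqZeroExt.fst_mul, DualNumber.fst_eps, zero_mul, TrivSqZeroExt.fst_zero]
    · rw [DualNumber.snd_mul, DualNumber.fst_eps, DualNumber.snd_eps, zero_mul, one_mul, zero_add,
        TrivSqZeroExt.snd_zero, h]

lemma eq_eps_mul_of_fst_eq_zero (x : DualNumber k) (h : TrivSqZeroExt.fst x = 0) :
    x = (ε : DualNumber k) * TrivSqZeroExt.inl (TrivSqZeroExt.snd x) := by
  refine TrivSqZeroExt.ext ?_ ?_
  · rw [TrivSqZeroExt.fst_mul, DualNumber.fst_eps, zero_mul, h]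
  · rw [DualNumber.snd_mul, DualNumber.fst_eps, DualNumber.snd_eps, zero_mul, one_mul, zero_add,
      TrivSqZeroExt.fst_inl]

/-- Flat modules over the dual numbers: the kernel of `ε` is the image of `ε`. -/
theorem exists_eps_smul_of_flat [Module.Flat (DualNumber k) M] (m : M)
    (h : (ε : DualNumber k) • m = 0) : ∃ m' : M, m = (ε : DualNumber k) • m' := by
  let μ : DualNumber k →ₗ[DualNumber k] DualNumber k := LinearMap.mulLeft (DualNumber k) ε
  have hμ : ∀ x, μ x = ε * x := fun x => rfl
  have hex : Function.Exact μ μ := by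
    intro x
    constructor
    · intro hx
      rw [hμ, eps_mul_eq_zero_iff] at hx
      exact ⟨TrivSqZeroExt.inl (TrivSqZeroExt.snd x), (eq_eps_mul_of_fst_eq_zero x hx).symm⟩
    · rintro ⟨y, rfl⟩
      rw [hμ, hμ, ← mul_assoc, DualNumber.eps_mul_eps, zero_mul]
  have hex' := Module.Flat.rTensor_exact M hex
  have hlid : ∀ t : DualNumber k ⊗[DualNumber k] M,
      TensorProduct.lid (DualNumber k) M (μ.rTensor M t) =
        (ε : DualNumber k) • TensorProduct.lid (DualNumber k) M t := by
    intro t
    induction t using TensorProduct.induction_on with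
    | zero => simp
    | add x y hx hy => simp only [map_add, hx, hy, smul_add]
    | tmul d m =>
      rw [LinearMap.rTensor_tmul, TensorProduct.lid_tmul, TensorProduct.lid_tmul, hμ, mul_smul]
  have h1 : μ.rTensor M ((1 : DualNumber k) ⊗ₜ[DualNumber k] m) = 0 := by
    apply (TensorProduct.lid (DualNumber k) M).injective
    rw [hlid, TensorProduct.lid_tmul, one_smul, h, map_zero]
  obtain ⟨t, ht⟩ := (hex' _).mp h1
  refine ⟨TensorProduct.lid (DualNumber k) M t, ?_⟩
  rw [← hlid, ht, TensorProduct.lid_tmul, one_smul]

/-- Criterion for flatness over the dual numbers. -/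
theorem flat_of_eps (h : ∀ m : M, (ε : DualNumber k) • m = 0 → ∃ m' : M, m = (ε : DualNumber k) • m') :
    Module.Flat (DualNumber k) M := by
  rw [Module.Flat.iff_lift_lsmul_comp_subtype_injective]
  intro I _
  set L := TensorProduct.lift ((LinearMap.lsmul (DualNumber k) M).comp I.subtype) with hL
  have hLt : ∀ (x : I) (m : M), L (x ⊗ₜ m) = (x : DualNumber k) • m := fun x m => rfl
  by_cases hunit : ∃ x ∈ I, TrivSqZeroExt.fst x ≠ 0
  · obtain ⟨x, hxI, hx⟩ := hunit
    have hxu : IsUnit x := by
      rw [TrivSqZeroExt.isUnit_iff_isUnit_fst]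
      exact isUnit_iff_ne_zero.mpr hx
    have h1 : (1 : DualNumber k) ∈ I := by
      rw [← Ideal.eq_top_iff_one]
      exact Ideal.eq_top_of_isUnit_mem I hxI hxu
    have hleft : ∀ t : I ⊗[DualNumber k] M, (⟨1, h1⟩ : I) ⊗ₜ[DualNumber k] L t = t := by
      intro t
      induction t using TensorProduct.induction_on with
      | zero => simp
      | add x y hx hy => rw [map_add, TensorProduct.tmul_add, hx, hy]
      | tmul y m =>
        rw [hLt, ← TensorProduct.smul_tmul]
        congr 1
        apply Subtype.ext
        show (y : DualNumber k) * 1 = y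
        rw [mul_one]
    intro t t' htt
    rw [← hleft t, ← hleft t', htt]
  · push_neg at hunit
    by_cases hε : (ε : DualNumber k) ∈ I
    · have hform : ∀ t : I ⊗[DualNumber k] M, ∃ m : M, t = (⟨ε, hε⟩ : I) ⊗ₜ[DualNumber k] m := by
        intro t
        induction t using TensorProduct.induction_on with
        | zero => exact ⟨0, (TensorProduct.tmul_zero _ _).symm⟩
        | add x y hx hy =>
          obtain ⟨m1, rfl⟩ := hx
          obtain ⟨m2, rfl⟩ := hy
          exact ⟨m1 + m2, (TensorProduct.tmul_add _ _ _).symm⟩
        | tmul y m =>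
          refine ⟨(TrivSqZeroExt.inl (TrivSqZeroExt.snd (y : DualNumber k)) : DualNumber k) • m, ?_⟩
          rw [← TensorProduct.smul_tmul]
          congr 1
          apply Subtype.ext
          show (y : DualNumber k) = TrivSqZeroExt.inl (TrivSqZeroExt.snd (y : DualNumber k)) * ε
          rw [mul_comm]
          exact eq_eps_mul_of_fst_eq_zero _ (hunit _ y.2)
      rw [injective_iff_map_eq_zero]
      intro t ht
      obtain ⟨m, rfl⟩ := hform t
      rw [hLt] at ht
      obtain ⟨m', rfl⟩ := h m ht
      rw [← TensorProduct.smul_tmul]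
      have : (ε : DualNumber k) • (⟨ε, hε⟩ : I) = 0 := by
        apply Subtype.ext
        show (ε : DualNumber k) * ε = 0
        exact DualNumber.eps_mul_eps
      rw [this, TensorProduct.zero_tmul]
    · have hzero : ∀ y : I, y = 0 := by
        intro y
        apply Subtype.ext
        have hy1 := hunit _ y.2
        by_contra hne
        apply hε
        have hs : TrivSqZeroExt.snd (y : DualNumber k) ≠ 0 := by
          intro hs
          apply hne
          exact TrivSqZeroExt.ext hy1 hs
        have : (ε : DualNumber k) =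
            TrivSqZeroExt.inl (TrivSqZeroExt.snd (y : DualNumber k))⁻¹ * (y : DualNumber k) := by
          refine TrivSqZeroExt.ext ?_ ?_
          · rw [TrivSqZeroExt.fst_mul, hy1, mul_zero, DualNumber.fst_eps]
          · rw [DualNumber.snd_mul, TrivSqZeroExt.fst_inl, TrivSqZeroExt.snd_inl, hy1, zero_mul,
              add_zero, DualNumber.snd_eps, inv_mul_cancel₀ hs]
        rw [this]
        exact I.mul_mem_left _ y.2
      have hz : ∀ t : I ⊗[DualNumber k] M, t = 0 := by
        intro t
        induction t using TensorProduct.induction_on with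
        | zero => rfl
        | add x y hx hy => rw [hx, hy, add_zero]
        | tmul y m => rw [hzero y, TensorProduct.zero_tmul]
      intro t t' _
      rw [hz t, hz t']

end Groth.Agent.Lib.Helper97.DefDual
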