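import Groth.Prelude.Def_ArtFun4
import Groth.Prelude.Def_Exal
import Groth.Agent.Lib.Helper97.DefDual.DualFlat
import Mathlib

/-!
# The first-order deformation of `Spec B` attached to an extension of `B` by `B`
-/

set_option autoImplicit false

namespace Groth.Agent.Lib.Helper97.DefDual

open CategoryTheory CategoryTheory.Limits AlgebraicGeometry DualNumber

universe u

variable {k B : Type u} [Field k] [CommRing B] [Algebra k B] (E : Exal.Ext k B B)

/-- The image of `ε` in the middle ring of an extension of `B` by `B`. -/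
def epsE : E.E := E.incl 1

lemma mul_epsE (x : E.E) : x * epsE E = E.incl (E.proj x) := by
  rw [epsE, E.isExtension.mul_incl, smul_eq_mul, mul_one]

lemma proj_incl (z : B) : E.proj (E.incl z) = 0 := (E.isExtension.exact _).mpr ⟨z, rfl⟩

lemma proj_epsE : E.proj (epsE E) = 0 := proj_incl E 1

lemma epsE_sq : epsE E * epsE E = 0 := by
  rw [mul_epsE, proj_epsE, map_zero]

lemma incl_eq_mul_epsE (s : E.E) : E.incl (E.proj s) = s * epsE E := (mul_epsE E s).symm

lemma exists_mul_epsE_of_proj_eq_zero (x : E.E) (hx : E.proj x = 0) : ∃ s : E.E, x = s * epsE E := by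
  obtain ⟨z, rfl⟩ := (E.isExtension.exact x).mp hx
  obtain ⟨s, rfl⟩ := E.isExtension.proj_surjective z
  exact ⟨s, incl_eq_mul_epsE E s⟩

/-- The `k[ε]`-algebra structure of the middle ring. -/
noncomputable def dmap : DualNumber k →ₐ[k] E.E :=
  DualNumber.lift ⟨(Algebra.ofId k E.E, epsE E), epsE_sq E, fun _ => Commute.all _ _⟩

lemma dmap_eps : dmap E ε = epsE E := DualNumber.lift_apply_eps _

lemma dmap_apply (d : DualNumber k) :
    dmap E d = algebraMap k E.E (TrivSqZeroExt.fst d) + algebraMap k E.E (TrivSqZeroExt.snd d) * epsE E :=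
  DualNumber.lift_apply_apply _ d

lemma proj_dmap (d : DualNumber k) : E.proj (dmap E d) = algebraMap k B (TrivSqZeroExt.fst d) := by
  rw [dmap_apply, map_add, map_mul, proj_epsE, mul_zero, add_zero, AlgHom.commutes]

theorem flat_dmap : (dmap E).toRingHom.Flat := by
  letI : Algebra (DualNumber k) E.E := (dmap E).toRingHom.toAlgebra
  show Module.Flat (DualNumber k) E.E
  apply flat_of_eps
  intro m hm
  have hm' : epsE E * m = 0 := by
    rw [← dmap_eps]
    exact hm
  rw [mul_comm, mul_epsE] at hm'
  have hm0 : E.proj m = 0 := by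
    apply E.isExtension.incl_injective
    rw [hm', map_zero]
  obtain ⟨s, rfl⟩ := exists_mul_epsE_of_proj_eq_zero E m hm0
  refine ⟨s, ?_⟩
  show s * epsE E = dmap E ε * s
  rw [dmap_eps, mul_comm]

theorem isPushout :
    IsPushout (CommRingCat.ofHom (dmap E).toRingHom)
      (CommRingCat.ofHom (ArtFun.Art.dual k k).res.toRingHom)
      (CommRingCat.ofHom E.proj.toRingHom) (CommRingCat.ofHom (algebraMap k B)) := by
  have hw : CommRingCat.ofHom (dmap E).toRingHom ≫ CommRingCat.ofHom E.proj.toRingHom =
      CommRingCat.ofHom (ArtFun.Art.dual k k).res.toRingHom ≫ CommRingCat.ofHom (algebraMap k B) := by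
    refine CommRingCat.hom_ext (RingHom.ext fun d => ?_)
    exact proj_dmap E d
  have hker : ∀ (s : PushoutCocone (CommRingCat.ofHom (dmap E).toRingHom)
      (CommRingCat.ofHom (ArtFun.Art.dual k k).res.toRingHom)),
      RingHom.ker E.proj.toRingHom ≤ RingHom.ker s.inl.hom := by
    intro s x hx
    rw [RingHom.mem_ker] at hx ⊢
    obtain ⟨t, rfl⟩ := exists_mul_epsE_of_proj_eq_zero E x hx
    have h1 : s.inl.hom (epsE E) = 0 := by
      have := congrArg (fun f => f.hom (ε : DualNumber k)) s.condition
      simp only [CommRingCat.hom_comp, CommRingCat.hom_ofHom, RingHom.comp_apply] at this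
      rw [← dmap_eps]
      refine this.trans ?_
      have h0 : (ArtFun.Art.dual k k).res.toRingHom (ε : DualNumber k) = 0 := DualNumber.fst_eps
      exact (congrArg s.inr.hom h0).trans (map_zero _)
    rw [map_mul, h1, mul_zero]
  let desc : ∀ (s : PushoutCocone (CommRingCat.ofHom (dmap E).toRingHom)
      (CommRingCat.ofHom (ArtFun.Art.dual k k).res.toRingHom)), CommRingCat.of B ⟶ s.pt := fun s =>
    CommRingCat.ofHom (RingHom.liftOfRightInverse E.proj.toRingHom
      (Function.surjInv E.isExtension.proj_surjective)
      (Function.rightInverse_surjInv E.isExtension.proj_surjective) ⟨s.inl.hom, hker s⟩)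
  have hdesc : ∀ s, CommRingCat.ofHom E.proj.toRingHom ≫ desc s = s.inl := by
    intro s
    ext x
    exact RingHom.liftOfRightInverse_comp_apply E.proj.toRingHom
      (Function.surjInv E.isExtension.proj_surjective)
      (Function.rightInverse_surjInv E.isExtension.proj_surjective) ⟨s.inl.hom, hker s⟩ x
  refine ⟨⟨hw⟩, ⟨PushoutCocone.IsColimit.mk hw desc hdesc ?_ ?_⟩⟩
  · intro s
    ext c
    have h1 := congrArg (fun f => f.hom (algebraMap k E.E c)) (hdesc s)
    simp only [CommRingCat.hom_comp, CommRingCat.hom_ofHom, RingHom.comp_apply] at h1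
    have h2 : E.proj.toRingHom (algebraMap k E.E c) = algebraMap k B c := E.proj.commutes c
    rw [h2] at h1
    show (desc s).hom (algebraMap k B c) = s.inr.hom c
    rw [h1]
    have h3 := congrArg (fun f => f.hom (algebraMap k (DualNumber k) c)) s.condition
    simp only [CommRingCat.hom_comp, CommRingCat.hom_ofHom, RingHom.comp_apply] at h3
    have h4 : (dmap E).toRingHom (algebraMap k (DualNumber k) c) = algebraMap k E.E c :=
      (dmap E).commutes c
    have h5 : (ArtFun.Art.dual k k).res.toRingHom (algebraMap k (DualNumber k) c) = c :=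
      (ArtFun.Art.dual k k).res.commutes c
    exact (congrArg s.inl.hom h4).symm.trans (h3.trans (congrArg s.inr.hom h5))
  · intro s m hm _
    ext b
    obtain ⟨x, rfl⟩ := E.isExtension.proj_surjective b
    have h1 := congrArg (fun f => f.hom x) hm
    have h2 := congrArg (fun f => f.hom x) (hdesc s)
    simp only [CommRingCat.hom_comp, CommRingCat.hom_ofHom, RingHom.comp_apply] at h1 h2
    exact h1.trans h2.symm

/-- The deformation of `Spec B` over the dual numbers attached to an extension of `B` by `B`. -/
noncomputable def ofExt : ArtFun.DefSch (Spec (CommRingCat.of B))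
    (Spec.map (CommRingCat.ofHom (algebraMap k B))) (ArtFun.Art.dual k k) where
  total := Spec (CommRingCat.of E.E)
  f := Spec.map (CommRingCat.ofHom (dmap E).toRingHom)
  flat := (HasRingHomProperty.Spec_iff (P := @Flat)).mpr (flat_dmap E)
  i := Spec.map (CommRingCat.ofHom E.proj.toRingHom)
  isPullback := isPullback_SpecMap_of_isPushout _ _ _ _ (isPushout E)

end Groth.Agent.Lib.Helper97.DefDual
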