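import Groth.Agent.Lib.Helper97.DefDual.Classes
import Groth.Agent.Lib.Helper97.DefAff.RigidTrivial

/-!
# Every first-order deformation of `Spec B` comes from an extension of `B` by `B`
-/

set_option autoImplicit false

namespace Groth.Agent.Lib.Helper97.DefDual

open CategoryTheory CategoryTheory.Limits AlgebraicGeometry DualNumber
open Groth.Agent.Lib.Helper97.DefAff

universe u

variable {k B : Type u} [Field k] [CommRing B] [Algebra k B]

lemma ker_res_dual (x : DualNumber k) (hx : (ArtFun.Art.dual k k).res.toRingHom x = 0) :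
    ∃ a : DualNumber k, x = ε * a := by
  have h : TrivSqZeroExt.fst x = 0 := hx
  exact ⟨_, eq_eps_mul_of_fst_eq_zero x h⟩

theorem exists_ext_iso
    (ξ : ArtFun.DefSch (Spec (CommRingCat.of B)) (Spec.map (CommRingCat.ofHom (algebraMap k B)))
      (ArtFun.Art.dual k k)) :
    ∃ E : Exal.Ext k B B, Nonempty ((ofExt E).Iso ξ) := by
  let e : (ArtFun.Art.dual k k).carrier →ₐ[k] k := (ArtFun.Art.dual k k).res
  have hsq : IsPullback ξ.i (Spec.map (CommRingCat.ofHom (algebraMap k B))) ξ.f
      (Spec.map (CommRingCat.ofHom e.toRingHom)) := ξ.isPullback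
  haveI : Flat ξ.f := ξ.flat
  have he : Function.Surjective e.toRingHom := (ArtFun.Art.dual k k).res_surjective
  have hnil : IsNilpotent (RingHom.ker e.toRingHom) := isNilpotent_ker_of_isArtinianRing _
  have _ : IsAffine ξ.total :=
    isAffine_of_isPullback e.toRingHom he (le_nilradical_of_isNilpotent hnil) hsq
  let bm : DualNumber k →+* Γ(ξ.total, ⊤) := baseMap ξ.f
  letI algA : Algebra (DualNumber k) Γ(ξ.total, ⊤) := bm.toAlgebra
  letI algk : Algebra k Γ(ξ.total, ⊤) :=
    ((baseMap ξ.f).comp (algebraMap k (ArtFun.Art.dual k k).carrier)).toAlgebra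
  have hflat : Module.Flat (DualNumber k) Γ(ξ.total, ⊤) := flat_baseMap (g := ξ.f)
  have hΓbij : Function.Bijective (Scheme.ΓSpecIso (CommRingCat.of B)).hom.hom :=
    (ConcreteCategory.isIso_iff_bijective _).mp inferInstance
  let π : Γ(ξ.total, ⊤) →ₐ[k] B :=
    { (Scheme.ΓSpecIso (CommRingCat.of B)).hom.hom.comp ξ.i.appTop.hom with
      commutes' := fun c => by
        change (Scheme.ΓSpecIso (CommRingCat.of B)).hom.hom
          (ξ.i.appTop.hom (baseMap ξ.f (algebraMap k (ArtFun.Art.dual k k).carrier c))) =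
            algebraMap k B c
        have h1 := RingHom.congr_fun (appTop_comp_baseMap e hsq)
          (algebraMap k (ArtFun.Art.dual k k).carrier c)
        rw [RingHom.comp_apply] at h1
        rw [h1, RingHom.comp_apply]
        have h2 : e.toRingHom (algebraMap k (ArtFun.Art.dual k k).carrier c) = c := e.commutes c
        rw [h2, ΓSpecIso_hom_baseMap_specMap] }
  have hπdef : ∀ y, π y = (Scheme.ΓSpecIso (CommRingCat.of B)).hom.hom (ξ.i.appTop.hom y) :=
    fun y => rfl
  have hπ : Function.Surjective π := hΓbij.2.comp (appTop_surjective e.toRingHom he hsq)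
  have hker : RingHom.ker (π : Γ(ξ.total, ⊤) →+* B) = (RingHom.ker e.toRingHom).map (baseMap ξ.f) := by
    rw [← ker_appTop e.toRingHom he hsq]
    ext y
    rw [RingHom.mem_ker, RingHom.mem_ker]
    change π y = 0 ↔ _
    rw [hπdef]
    exact map_eq_zero_iff _ hΓbij.1
  -- the image of `ε`
  let εR : Γ(ξ.total, ⊤) := baseMap ξ.f (ε : DualNumber k)
  have hεsq : εR * εR = 0 := by
    show baseMap ξ.f (ε : DualNumber k) * baseMap ξ.f (ε : DualNumber k) = 0
    rw [← map_mul]
    have : (ε : DualNumber k) * ε = 0 := DualNumber.eps_mul_eps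
    exact (congrArg (baseMap ξ.f) this).trans (map_zero _)
  have hkerε : ∀ y, π y = 0 → ∃ r, y = εR * r := by
    intro y hy
    have hy' : y ∈ (RingHom.ker e.toRingHom).map (baseMap ξ.f) := by
      rw [← hker]
      exact hy
    have hle : (RingHom.ker e.toRingHom).map (baseMap ξ.f) ≤ Ideal.span {εR} := by
      rw [Ideal.map_le_iff_le_comap]
      intro x hx
      obtain ⟨a, rfl⟩ := ker_res_dual x hx
      rw [Ideal.mem_comap]
      have : baseMap ξ.f ((ε : DualNumber k) * a) = εR * baseMap ξ.f a := map_mul _ _ _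
      rw [this]
      exact Ideal.mul_mem_right _ _ (Ideal.subset_span rfl)
    obtain ⟨r, hr⟩ := Ideal.mem_span_singleton'.mp (hle hy')
    exact ⟨r, by rw [← hr, mul_comm]⟩
  have hπε : π εR = 0 := by
    have : εR ∈ (RingHom.ker e.toRingHom).map (baseMap ξ.f) := by
      apply Ideal.mem_map_of_mem
      rw [RingHom.mem_ker]
      exact DualNumber.fst_eps
    rw [← hker] at this
    exact this
  have hεker : ∀ y, π y = 0 → εR * y = 0 := by
    intro y hy
    obtain ⟨r, rfl⟩ := hkerε y hy
    rw [← mul_assoc, hεsq, zero_mul]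
  have hεflat : ∀ y, εR * y = 0 → π y = 0 := by
    intro y hy
    obtain ⟨r, rfl⟩ := exists_eps_smul_of_flat (k := k) (M := Γ(ξ.total, ⊤)) y hy
    show π (εR * r) = 0
    rw [map_mul, hπε, zero_mul]
  let s : B → Γ(ξ.total, ⊤) := Function.surjInv hπ
  have hs : ∀ z, π (s z) = z := Function.surjInv_eq hπ
  have hεs : ∀ y, εR * s (π y) = εR * y := by
    intro y
    have : π (s (π y) - y) = 0 := by rw [map_sub, hs, sub_self]
    have := hεker _ this
    rw [mul_sub, sub_eq_zero] at this
    exact this
  let incl : B →+ Γ(ξ.total, ⊤) := AddMonoidHom.mk' (fun z => εR * s z) (by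
    intro a b
    have h1 : π (s (a + b) - (s a + s b)) = 0 := by
      rw [map_sub, map_add, hs, hs, hs, sub_self]
    have h2 := hεker _ h1
    rw [mul_sub, sub_eq_zero, mul_add] at h2
    exact h2)
  have hincl : ∀ y, incl (π y) = εR * y := hεs
  have hext : Exal.IsExtension π incl :=
    { proj_surjective := hπ
      incl_injective := by
        rw [injective_iff_map_eq_zero]
        intro z hz
        obtain ⟨y, rfl⟩ := hπ z
        rw [hincl] at hz
        exact hεflat y hz
      exact := by
        intro x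
        constructor
        · intro hx
          obtain ⟨r, rfl⟩ := hkerε x hx
          exact ⟨π r, hincl r⟩
        · rintro ⟨z, rfl⟩
          obtain ⟨y, rfl⟩ := hπ z
          rw [hincl, map_mul, hπε, zero_mul]
      mul_incl := by
        intro x z
        obtain ⟨y, rfl⟩ := hπ z
        rw [smul_eq_mul, ← map_mul, hincl, hincl]
        ring }
  let E : Exal.Ext k B B :=
    { E := Γ(ξ.total, ⊤)
      commRing := inferInstance
      algebra := algk
      proj := π
      incl := incl
      isExtension := hext }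
  have hepsE : epsE E = εR := by
    show incl 1 = εR
    rw [← map_one π, hincl, mul_one]
  let bmAlg : DualNumber k →ₐ[k] E.E :=
    { baseMap ξ.f with
      commutes' := fun c => rfl }
  have hdmap : dmap E = bmAlg := by
    apply DualNumber.algHom_ext
    rw [dmap_eps, hepsE]
    rfl
  have hdmap' : CommRingCat.ofHom (dmap E).toRingHom =
      (Scheme.ΓSpecIso (CommRingCat.of (ArtFun.Art.dual k k).carrier)).inv ≫ ξ.f.appTop := by
    rw [hdmap]
    rfl
  have hproj' : CommRingCat.ofHom E.proj.toRingHom =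
      ξ.i.appTop ≫ (Scheme.ΓSpecIso (CommRingCat.of B)).hom := rfl
  refine ⟨E, ⟨⟨ξ.total.isoSpec.symm, ?_, ?_⟩⟩⟩
  · show ξ.total.isoSpec.inv ≫ ξ.f = Spec.map (CommRingCat.ofHom (dmap E).toRingHom)
    rw [hdmap', Iso.inv_comp_eq]
    exact eq_toSpecΓ_comp ξ.f
  · show Spec.map (CommRingCat.ofHom E.proj.toRingHom) ≫ ξ.total.isoSpec.inv = ξ.i
    rw [hproj', Iso.comp_inv_eq, Spec.map_comp, SpecMap_ΓSpecIso_hom]
    exact (Scheme.toSpecΓ_naturality ξ.i).symm

end Groth.Agent.Lib.Helper97.DefDual
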